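import Groth.Agent.GenLocus.PullFrame
import Groth.Agent.QCohBase.Qcqs
import Groth.Agent.CohFinite.Linear
import Groth.Agent.TensorMod.FinLocFree
import Groth.Prelude.Def_FlatMod2

/-!
# Bases of sections; morphisms out of finite locally free modules by gluing; powers of a function
factoring through free modules
-/

set_option autoImplicit false
set_option backward.isDefEq.respectTransparency false
set_option backward.isDefEq.respectTransparency.types false

noncomputable section

universe u

open CategoryTheory Limits AlgebraicGeometry Opposite TopologicalSpace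
open Groth.Agent.QCohBase
open Groth.Agent.GenLocus (modHomMk modHomMk_app app_mres sect mres_sect app_eq_smul homOfSection sect_homOfSection)

namespace Groth.Agent.FrameHom

variable {X : Scheme.{u}}

/-- A linear combination of restricted sections. -/
def comb (F : X.Modules) {U : X.Opens} {n : ℕ} (e : Fin n → Γ(F, U)) {V : X.Opens} (h : V ≤ U)
    (r : Fin n → Γ(X, V)) : Γ(F, V) := ∑ l, r l • mres F h (e l)

lemma mres_comb (F : X.Modules) {U : X.Opens} {n : ℕ} (e : Fin n → Γ(F, U)) {V W : X.Opens}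
    (h : V ≤ U) (h' : W ≤ V) (r : Fin n → Γ(X, V)) :
    mres F h' (comb F e h r) = comb F e (h'.trans h) (fun l => ores h' (r l)) := by
  simp only [comb, map_sum, mres_smul, mres_mres]

/-- A basis of sections on every smaller open. -/
def IsBasisOn (F : X.Modules) {U : X.Opens} {n : ℕ} (e : Fin n → Γ(F, U)) : Prop :=
  ∀ (V : X.Opens) (h : V ≤ U), Function.Bijective (comb F e h)

lemma IsBasisOn.res {F : X.Modules} {U V : X.Opens} {n : ℕ} {e : Fin n → Γ(F, U)}
    (he : IsBasisOn F e) (h : V ≤ U) : IsBasisOn F (fun l => mres F h (e l)) := fun W hW => by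
  have : comb F (fun l => mres F h (e l)) hW = comb F e (hW.trans h) := funext fun r => by
    simp only [comb, mres_mres]
  rw [this]
  exact he W _

/-- Coordinates with respect to a basis. -/
def IsBasisOn.coord {F : X.Modules} {U : X.Opens} {n : ℕ} {e : Fin n → Γ(F, U)}
    (he : IsBasisOn F e) (V : X.Opens) (h : V ≤ U) : Γ(F, V) →ₗ[Γ(X, V)] (Fin n → Γ(X, V)) :=
  (LinearEquiv.ofBijective
    ({ toFun := comb F e h
       map_add' := fun r r' => by simp only [comb, Pi.add_apply, add_smul, Finset.sum_add_distrib]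
       map_smul' := fun c r => by
        simp only [comb, RingHom.id_apply, Pi.smul_apply, smul_eq_mul, mul_smul, Finset.smul_sum] } :
      (Fin n → Γ(X, V)) →ₗ[Γ(X, V)] Γ(F, V)) (he V h)).symm.toLinearMap

lemma IsBasisOn.comb_coord {F : X.Modules} {U : X.Opens} {n : ℕ} {e : Fin n → Γ(F, U)}
    (he : IsBasisOn F e) (V : X.Opens) (h : V ≤ U) (x : Γ(F, V)) :
    comb F e h (he.coord V h x) = x :=
  (LinearEquiv.ofBijective
    ({ toFun := comb F e h
       map_add' := fun r r' => by simp only [comb, Pi.add_apply, add_smul, Finset.sum_add_distrib]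
       map_smul' := fun c r => by
        simp only [comb, RingHom.id_apply, Pi.smul_apply, smul_eq_mul, mul_smul, Finset.smul_sum] } :
      (Fin n → Γ(X, V)) →ₗ[Γ(X, V)] Γ(F, V)) (he V h)).apply_symm_apply x

lemma IsBasisOn.coord_mres {F : X.Modules} {U : X.Opens} {n : ℕ} {e : Fin n → Γ(F, U)}
    (he : IsBasisOn F e) {V W : X.Opens} (h : V ≤ U) (h' : W ≤ V) (x : Γ(F, V)) :
    he.coord W (h'.trans h) (mres F h' x) = fun l => ores h' (he.coord V h x l) := by
  refine (he W (h'.trans h)).1 ?_
  rw [he.comb_coord, ← mres_comb F e h h', he.comb_coord]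

/-- A compatible family of linear maps on the sections below `V`. -/
structure LocHom (F G : X.Modules) (V : X.Opens) where
  app : ∀ T : X.Opens, T ≤ V → (Γ(F, T) →ₗ[Γ(X, T)] Γ(G, T))
  nat : ∀ {T T' : X.Opens} (h : T ≤ V) (h' : T' ≤ T) (x : Γ(F, T)),
    mres G h' (app T h x) = app T' (h'.trans h) (mres F h' x)

/-- Restriction to a smaller open. -/
def LocHom.res {F G : X.Modules} {V W : X.Opens} (φ : LocHom F G V) (h : W ≤ V) : LocHom F G W where
  app T hT := φ.app T (hT.trans h)
  nat hT h' x := φ.nat (hT.trans h) h' x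

/-- The map sending the basis to prescribed sections. -/
def IsBasisOn.homOf {F G : X.Modules} {U : X.Opens} {n : ℕ} {e : Fin n → Γ(F, U)}
    (he : IsBasisOn F e) (y : Fin n → Γ(G, U)) : LocHom F G U where
  app T h :=
    { toFun := fun x => comb G y h (he.coord T h x)
      map_add' := fun a b => by
        simp only [comb, map_add, Pi.add_apply, add_smul, Finset.sum_add_distrib]
      map_smul' := fun c a => by
        simp only [comb, map_smul, RingHom.id_apply, Pi.smul_apply, smul_eq_mul, mul_smul,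
          Finset.smul_sum] }
  nat h h' x := by
    show mres G h' (comb G y h (he.coord _ h x)) = comb G y _ (he.coord _ _ (mres F h' x))
    rw [mres_comb, he.coord_mres h h']

/-- Two families agree when they agree on a basis. -/
lemma LocHom.ext_basis {F G : X.Modules} {U : X.Opens} {n : ℕ} {e : Fin n → Γ(F, U)}
    (he : IsBasisOn F e) (φ ψ : LocHom F G U)
    (heq : ∀ l, φ.app U le_rfl (e l) = ψ.app U le_rfl (e l))
    (T : X.Opens) (h : T ≤ U) (x : Γ(F, T)) : φ.app T h x = ψ.app T h x := by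
  rw [← he.comb_coord T h x]
  simp only [comb, map_sum, map_smul]
  refine Finset.sum_congr rfl fun l _ => ?_
  rw [← φ.nat le_rfl h, ← ψ.nat le_rfl h, heq l]

lemma IsBasisOn.homOf_self {F G : X.Modules} {U : X.Opens} {n : ℕ} {e : Fin n → Γ(F, U)}
    (he : IsBasisOn F e) (y : Fin n → Γ(G, U)) (l : Fin n) :
    (he.homOf y).app U le_rfl (e l) = y l := by
  classical
  have hc : he.coord U le_rfl (e l) = Pi.single l (1 : Γ(X, U)) := by
    refine (he U le_rfl).1 ?_
    rw [he.comb_coord]
    simp [comb, Pi.single_apply, ite_smul]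
  show comb G y le_rfl (he.coord U le_rfl (e l)) = y l
  rw [hc]
  simp [comb, Pi.single_apply, ite_smul]

/-- A morphism restricted below an open. -/
def ofHom {F G : X.Modules} (φ : F ⟶ G) (V : X.Opens) : LocHom F G V where
  app T _ :=
    { toFun := fun x => φ.app T x
      map_add' := map_add _
      map_smul' := fun r x => Scheme.Modules.Hom.app_smul φ r x }
  nat _ h' x := app_mres φ h' x

/-- Gluing compatible families along a cover. -/
theorem exists_glue {F G : X.Modules} {ι : Type u} (A : ι → X.Opens) (hcov : ⊤ ≤ ⨆ i, A i)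
    (φ : ∀ i, LocHom F G (A i))
    (hagree : ∀ i j (T : X.Opens) (hi : T ≤ A i) (hj : T ≤ A j) (x : Γ(F, T)),
      (φ i).app T hi x = (φ j).app T hj x) :
    ∃ s : F ⟶ G, ∀ i (T : X.Opens) (h : T ≤ A i) (x : Γ(F, T)), s.app T x = (φ i).app T h x := by
  have hcov' : ∀ T : X.Opens, T ≤ ⨆ i, T ⊓ A i := fun T x hx => by
    obtain ⟨i, hi⟩ := Opens.mem_iSup.1 (hcov (Set.mem_univ x))
    exact Opens.mem_iSup.2 ⟨i, hx, hi⟩
  let part : ∀ (T : X.Opens) (i : ι), Γ(F, T) → Γ(G, T ⊓ A i) := fun T i x =>
    (φ i).app (T ⊓ A i) inf_le_right (mres F inf_le_left x)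
  have key : ∀ (T : X.Opens) (x : Γ(F, T)), ∃ y : Γ(G, T), ∀ i,
      mres G (inf_le_left : T ⊓ A i ≤ T) y = part T i x := fun T x => by
    obtain ⟨y, hy, -⟩ := TopCat.Sheaf.existsUnique_gluing' ⟨G.presheaf, G.isSheaf⟩
      (fun i => T ⊓ A i) T (fun i => homOfLE inf_le_left) (hcov' T) (fun i => part T i x)
      (fun i j => by
        change mres G (inf_le_left : (T ⊓ A i) ⊓ (T ⊓ A j) ≤ T ⊓ A i) (part T i x) =
          mres G inf_le_right (part T j x)
        simp only [part]
        rw [(φ i).nat, (φ j).nat, mres_mres, mres_mres]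
        exact hagree i j _ _ _ _)
    exact ⟨y, hy⟩
  choose s hs using key
  have hu : ∀ (T : X.Opens) (a b : Γ(G, T)),
      (∀ i, mres G (inf_le_left : T ⊓ A i ≤ T) a = mres G inf_le_left b) → a = b := fun T a b h =>
    eq_of_iSup_le G (fun i => T ⊓ A i) (fun i => inf_le_left) (hcov' T) a b h
  let sh : ∀ T : X.Opens, Γ(F, T) →+ Γ(G, T) := fun T => AddMonoidHom.mk' (s T) fun a b =>
    hu T _ _ fun i => by
      rw [map_add, hs, hs, hs]
      simp only [part, map_add]
  have hres : ∀ (V W : X.Opens) (h : W ≤ V) (m : Γ(F, V)), mres G h (sh V m) = sh W (mres F h m) :=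
    fun V W h m => hu W _ _ fun i => by
      show mres G _ (mres G h (s V m)) = mres G _ (s W (mres F h m))
      rw [hs, mres_mres]
      have h1 := congrArg (mres G (inf_le_inf_right (A i) h : W ⊓ A i ≤ V ⊓ A i)) (hs V m i)
      rw [mres_mres] at h1
      rw [h1]
      simp only [part]
      rw [(φ i).nat, mres_mres, mres_mres]
  refine ⟨modHomMk sh hres fun V r m => hu V _ _ fun i => ?_, fun i T h x => ?_⟩
  · show mres G _ (s V (r • m)) = mres G _ (r • s V m)
    rw [hs, mres_smul, hs]
    simp only [part, mres_smul, map_smul]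
  · rw [modHomMk_app]
    show s T x = _
    have h1 := congrArg (mres G (le_inf le_rfl h : T ≤ T ⊓ A i)) (hs T x i)
    rw [mres_mres, mres_refl] at h1
    rw [h1]
    simp only [part]
    rw [(φ i).nat, mres_mres, mres_refl]

/-- A trivialisation gives a basis. -/
theorem exists_isBasisOn_of_triv {F : X.Modules} {U : X.Opens} {n : ℕ}
    (t : F.restrict U.ι ≅ FlatMod.freeMod (U : Scheme.{u}) n) :
    ∃ e : Fin n → Γ(F, U), IsBasisOn F e := by
  classical
  have htop : U ≤ U.ι ''ᵁ ⊤ := le_of_eq U.ι_image_top.symm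
  let c : Fin n → (Coh.structureModule (U : Scheme.{u}) ⟶ F.restrict U.ι) := fun l =>
    Sigma.ι (fun _ : Fin n => Coh.structureModule (U : Scheme.{u})) l ≫ t.inv
  let π : Fin n → (F.restrict U.ι ⟶ Coh.structureModule (U : Scheme.{u})) := fun m =>
    t.hom ≫ Sigma.desc (fun l => if l = m then 𝟙 _ else 0)
  have hsum : ∑ l, π l ≫ c l = 𝟙 _ := by
    have h1 : ∑ l, Sigma.desc (fun j : Fin n => if j = l then 𝟙 _ else 0) ≫
        Sigma.ι (fun _ : Fin n => Coh.structureModule (U : Scheme.{u})) l = 𝟙 _ := by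
      refine Sigma.hom_ext _ _ fun j => ?_
      rw [Preadditive.comp_sum, Category.comp_id, Finset.sum_eq_single j]
      · rw [Sigma.ι_desc_assoc, if_pos rfl, Category.id_comp]
      · intro l _ hl
        rw [Sigma.ι_desc_assoc, if_neg hl.symm, zero_comp]
      · simp
    calc ∑ l, π l ≫ c l = t.hom ≫ (∑ l, Sigma.desc (fun j : Fin n => if j = l then 𝟙 _ else 0) ≫
          Sigma.ι (fun _ : Fin n => Coh.structureModule (U : Scheme.{u})) l) ≫ t.inv := by
            simp only [π, c, Preadditive.sum_comp, Preadditive.comp_sum, Category.assoc]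
      _ = 𝟙 _ := by rw [h1, Category.id_comp, t.hom_inv_id]
  have horth : ∀ l m, c l ≫ π m = if l = m then 𝟙 _ else 0 := fun l m => by
    simp only [c, π, Category.assoc, t.inv_hom_id_assoc, Sigma.ι_desc]
  refine ⟨fun l => mres F htop ((F.restrictAppIso U.ι ⊤).hom (sect (c l) ⊤)), fun V hV => ?_⟩
  obtain ⟨W, rfl⟩ : ∃ W : U.toScheme.Opens, U.ι ''ᵁ W = V :=
    ⟨U.ι ⁻¹ᵁ V, (U.ι.image_preimage_eq_opensRange_inf V).trans
      (by rw [Scheme.Opens.opensRange_ι]; exact inf_eq_right.mpr hV)⟩
  let R := (U.ι.appIso W).commRingCatIsoToRingEquiv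
  let combW : (Fin n → Γ(U.toScheme, W)) → Γ(F.restrict U.ι, W) := fun r =>
    ∑ l, (c l).app W (r l)
  have hW : Function.Bijective combW := by
    refine ⟨fun a b hab => funext fun m => ?_, fun y => ⟨fun l => (π l).app W y, ?_⟩⟩
    · have h2 : ∀ r : Fin n → Γ(U.toScheme, W), (π m).app W (combW r) = r m := fun r => by
        simp only [combW, map_sum]
        rw [Finset.sum_eq_single m]
        · rw [← ConcreteCategory.comp_apply, ← Scheme.Modules.Hom.comp_app, horth, if_pos rfl]
          rfl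
        · intro l _ hl
          rw [← ConcreteCategory.comp_apply, ← Scheme.Modules.Hom.comp_app, horth, if_neg hl]
          rfl
        · simp
      rw [← h2 a, ← h2 b, hab]
    · have h3 : (∑ l, π l ≫ c l).app W y = y := by rw [hsum]; rfl
      let ev : (F.restrict U.ι ⟶ F.restrict U.ι) →+ Γ(F.restrict U.ι, W) :=
        AddMonoidHom.mk' (fun g => g.app W y) fun a b => rfl
      exact ((map_sum ev _ _).symm.trans h3 :)
  have key : ∀ r : Fin n → Γ(U.toScheme, W),
      comb F (fun l => mres F htop ((F.restrictAppIso U.ι ⊤).hom (sect (c l) ⊤))) hV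
        (fun l => (U.ι.appIso W).inv (r l)) = (F.restrictAppIso U.ι W).hom (combW r) := fun r => by
    simp only [comb, combW, map_sum]
    refine Finset.sum_congr rfl fun l _ => ?_
    rw [app_eq_smul, Scheme.Modules.smul_restrictAppIso_hom_apply, mres_mres,
      ← mres_sect (c l) (le_top : W ≤ ⊤)]
    rfl
  have : comb F (fun l => mres F htop ((F.restrictAppIso U.ι ⊤).hom (sect (c l) ⊤))) hV =
      fun r => (F.restrictAppIso U.ι W).hom (combW (fun l => R (r l))) := funext fun r => by
    rw [← key]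
    exact congrArg (comb F _ hV) (funext fun l => (R.symm_apply_apply (r l)).symm)
  rw [this]
  exact ((ConcreteCategory.isIso_iff_bijective (F.restrictAppIso U.ι W).hom).mp inferInstance).comp
    (hW.comp (Equiv.piCongrRight fun _ => R.toEquiv).bijective)

/-- A finite cover by affine opens with bases. -/
theorem exists_affine_bases [CompactSpace X] {F : X.Modules} (hF : FlatMod.IsFinLocFree F) :
    ∃ (ι : Type u) (_ : Finite ι) (A : ι → X.Opens) (n : ι → ℕ) (e : ∀ i, Fin (n i) → Γ(F, A i)),
      (∀ i, IsAffineOpen (A i)) ∧ (∀ i, IsBasisOn F (e i)) ∧ ⊤ ≤ ⨆ i, A i := by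
  have key : ∀ x : X, ∃ (W : X.Opens) (n : ℕ) (e : Fin n → Γ(F, W)),
      IsAffineOpen W ∧ IsBasisOn F e ∧ x ∈ W := fun x => by
    obtain ⟨U, n, hxU, ⟨t⟩⟩ := hF x
    obtain ⟨e, he⟩ := exists_isBasisOn_of_triv t
    obtain ⟨W, hW, hxW, hWU⟩ := Opens.isBasis_iff_nbhd.1 X.isBasis_affineOpens hxU
    exact ⟨W, n, fun l => mres F hWU (e l), hW, he.res hWU, hxW⟩
  choose W n e hW he hx using key
  obtain ⟨t, ht⟩ := CompactSpace.elim_nhds_subcover (fun x ↦ (W x : Set X))
    (fun x ↦ (W x).2.mem_nhds (hx x))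
  refine ⟨↥t, inferInstance, fun i => W i, fun i => n i, fun i => e i, fun i => hW _, fun i => he _,
    fun x _ => ?_⟩
  have : x ∈ ⋃ i ∈ t, (W i : Set X) := by rw [ht]; trivial
  obtain ⟨i, hi, hxi⟩ := Set.mem_iUnion₂.mp this
  exact Opens.mem_iSup.mpr ⟨⟨i, hi⟩, hxi⟩

/-- A section of the structure module as a function. -/
abbrev asFn {T : X.Opens} (x : Γ(Coh.structureModule X, T)) : Γ(X, T) := x

/-- Multiplication by a global function. -/
def scal (F : X.Modules) (c : Γ(X, ⊤)) : F ⟶ F :=
  modHomMk (fun V => AddMonoidHom.mk' (fun x => ores (le_top : V ≤ ⊤) c • x) (fun _ _ => smul_add _ _ _))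
    (fun V W h x => by simp only [AddMonoidHom.mk'_apply, mres_smul, ores_ores])
    (fun V r x => smul_comm _ _ _)

lemma scal_app (F : X.Modules) (c : Γ(X, ⊤)) (V : X.Opens) (x : Γ(F, V)) :
    (scal F c).app V x = ores (le_top : V ≤ ⊤) c • x := rfl

variable [CompactSpace X] [QuasiSeparatedSpace X]

/-- A family of maps on a basic open extends, after a power, to a morphism. -/
theorem exists_extend_hom {F G : X.Modules} (hF : FlatMod.IsFinLocFree F) [G.IsQuasicoherent]
    (f : Γ(X, ⊤)) (φ : LocHom F G (X.basicOpen f)) :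
    ∃ (k : ℕ) (s : F ⟶ G), ∀ (T : X.Opens) (h : T ≤ X.basicOpen f) (x : Γ(F, T)),
      s.app T x = ores (le_top : T ≤ ⊤) f ^ k • φ.app T h x := by
  classical
  obtain ⟨ι, _, A, n, e, hA, he, hcov⟩ := exists_affine_bases hF
  let D : ι → X.Opens := fun i => A i ⊓ X.basicOpen f
  have hD : ∀ i, D i = X.basicOpen (ores (le_top : A i ≤ ⊤) f) := fun i => by rw [basicOpen_ores]
  have hlift : ∀ z : Σ i, Fin (n i), ∀ᶠ k in Filter.atTop, ∃ y : Γ(G, A z.1),
      mres G (inf_le_left : D z.1 ≤ A z.1) y = ores (le_top : D z.1 ≤ ⊤) f ^ k •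
        φ.app (D z.1) inf_le_right (mres F inf_le_left (e z.1 z.2)) := fun z => by
    obtain ⟨k, y, hy⟩ := exists_pow_smul_eq_mres G (hA z.1) (ores (le_top : A z.1 ≤ ⊤) f)
      (W := D z.1) (hD z.1) inf_le_left (φ.app (D z.1) inf_le_right (mres F inf_le_left (e z.1 z.2)))
    refine Filter.eventually_atTop.2 ⟨k, fun m hm => ⟨ores (le_top : A z.1 ≤ ⊤) f ^ (m - k) • y, ?_⟩⟩
    rw [mres_smul, hy, map_pow, ores_ores, smul_smul, ← pow_add, Nat.sub_add_cancel hm]
  obtain ⟨k, hk⟩ := (Filter.eventually_all.2 hlift).exists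
  choose y hy using hk
  let ψ : ∀ i, LocHom F G (A i) := fun i => (he i).homOf (fun l => y ⟨i, l⟩)
  have hψD : ∀ i (T : X.Opens) (hT : T ≤ D i) (x : Γ(F, T)),
      (ψ i).app T (hT.trans inf_le_left) x =
        ores (le_top : T ≤ ⊤) f ^ k • φ.app T (hT.trans inf_le_right) x := fun i T hT x => by
    conv_rhs => rw [← (he i).comb_coord T (hT.trans inf_le_left) x]
    show comb G _ _ _ = _
    simp only [comb, map_sum, map_smul, Finset.smul_sum]
    refine Finset.sum_congr rfl fun l _ => ?_
    have h1 := congrArg (mres G hT) (hy ⟨i, l⟩)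
    rw [mres_mres, mres_smul, map_pow, ores_ores, φ.nat, mres_mres] at h1
    rw [h1, smul_comm]
  have hagree : ∀ z : (ι × ι), ∀ᶠ m in Filter.atTop, ∀ l : Fin (n z.1),
      ores (le_top : A z.1 ⊓ A z.2 ≤ ⊤) f ^ m •
        ((ψ z.1).app (A z.1 ⊓ A z.2) inf_le_left (mres F inf_le_left (e z.1 l)) -
          (ψ z.2).app (A z.1 ⊓ A z.2) inf_le_right (mres F inf_le_left (e z.1 l))) = 0 := by
    rintro ⟨i, j⟩
    rw [Filter.eventually_all]
    intro l
    have hc : IsCompact ((A i ⊓ A j : X.Opens) : Set X) :=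
      QuasiSeparatedSpace.inter_isCompact (A i : Set X) (A j : Set X) (A i).isOpen
        (hA i).isCompact (A j).isOpen (hA j).isCompact
    let W := A i ⊓ A j ⊓ X.basicOpen f
    obtain ⟨m, hm⟩ := exists_pow_smul_eq_zero_of_isCompact G hc (ores (le_top : A i ⊓ A j ≤ ⊤) f)
      (W := W) (by rw [basicOpen_ores]) inf_le_left
      ((ψ i).app (A i ⊓ A j) inf_le_left (mres F inf_le_left (e i l)) -
          (ψ j).app (A i ⊓ A j) inf_le_right (mres F inf_le_left (e i l))) (by
        rw [map_sub, (ψ i).nat, (ψ j).nat, mres_mres, sub_eq_zero]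
        have hi : W ≤ D i := le_inf (inf_le_left.trans inf_le_left) inf_le_right
        have hj : W ≤ D j := le_inf (inf_le_left.trans inf_le_right) inf_le_right
        exact (hψD i W hi _).trans (hψD j W hj _).symm)
    refine Filter.eventually_atTop.2 ⟨m, fun m' hm' => ?_⟩
    rw [← Nat.sub_add_cancel hm', pow_add, mul_smul, hm, smul_zero]
  obtain ⟨m, hm⟩ := (Filter.eventually_all.2 hagree).exists
  let χ : ∀ i, LocHom F G (A i) := fun i =>
    (he i).homOf (fun l => ores (le_top : A i ≤ ⊤) f ^ m • y ⟨i, l⟩)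
  have hχ : ∀ i (T : X.Opens) (h : T ≤ A i) (x : Γ(F, T)),
      (χ i).app T h x = ores (le_top : T ≤ ⊤) f ^ m • (ψ i).app T h x := fun i T h x => by
    show comb G _ h _ = _ • comb G _ h _
    simp only [comb, Finset.smul_sum]
    refine Finset.sum_congr rfl fun l _ => ?_
    rw [mres_smul, map_pow, ores_ores, smul_comm]
  obtain ⟨s, hs⟩ := exists_glue A hcov χ fun i j T hi hj x => by
    refine LocHom.ext_basis ((he i).res (inf_le_left : A i ⊓ A j ≤ A i))
      ((χ i).res inf_le_left) ((χ j).res inf_le_right) (fun l => ?_) T (le_inf hi hj) x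
    have := hm (i, j) l
    rw [smul_sub, sub_eq_zero] at this
    show (χ i).app _ _ _ = (χ j).app _ _ _
    rw [hχ, hχ]
    exact this
  refine ⟨m + k, s, fun T h x => ?_⟩
  refine eq_of_iSup_le G (fun i => T ⊓ A i) (fun i => inf_le_left) (fun z hz => ?_) _ _ fun i => ?_
  · obtain ⟨i, hi⟩ := Opens.mem_iSup.1 (hcov (Set.mem_univ z))
    exact Opens.mem_iSup.2 ⟨i, hz, hi⟩
  · rw [app_mres, hs i _ inf_le_right, hχ, mres_smul, map_pow, ores_ores, φ.nat h,
      hψD i _ (le_inf inf_le_right (inf_le_left.trans h)), pow_add, mul_smul]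

/-- If a finite locally free module has a basis on the basic open of a function, some power of the
function factors through a finite free module. -/
theorem exists_pow_factor {F : X.Modules} (hF : FlatMod.IsFinLocFree F) (f : Γ(X, ⊤))
    {n : ℕ} {e : Fin n → Γ(F, X.basicOpen f)} (he : IsBasisOn F e) :
    ∃ (N : ℕ) (s : Fin n → (F ⟶ Coh.structureModule X)) (t : Fin n → (Coh.structureModule X ⟶ F)),
      ∀ (T : X.Opens) (x : Γ(F, T)),
        (∑ l, s l ≫ t l).app T x = ores (le_top : T ≤ ⊤) f ^ N • x := by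
  classical
  haveI : F.IsQuasicoherent := TensorMod.isQCoh_of_isFinLocFree hF
  haveI : (Coh.structureModule X).IsQuasicoherent :=
    TensorMod.isQCoh_structureModule X
  have hτ : ∀ l, ∀ᶠ k in Filter.atTop, ∃ τ : Γ(F, ⊤), mres F (X.basicOpen_le f) τ =
      ores (X.basicOpen_le f) f ^ k • e l := fun l => by
    obtain ⟨k, τ, hτ⟩ := exists_pow_smul_eq_mres_of_qcqs F (V := (⊤ : X.Opens))
      (by simpa using isCompact_univ (X := X)) (by simpa using isQuasiSeparated_univ (α := X))
      f rfl (X.basicOpen_le f) (e l)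
    refine Filter.eventually_atTop.2 ⟨k, fun m hm => ⟨f ^ (m - k) • τ, ?_⟩⟩
    rw [mres_smul, hτ, map_pow, smul_smul, ← pow_add, Nat.sub_add_cancel hm]
  obtain ⟨K, hK⟩ := (Filter.eventually_all.2 hτ).exists
  choose τ hτ using hK
  have hcoord : ∀ l : Fin n, ∀ᶠ k in Filter.atTop, ∃ s : F ⟶ Coh.structureModule X,
      ∀ (T : X.Opens) (h : T ≤ X.basicOpen f) (x : Γ(F, T)),
        s.app T x = ores (le_top : T ≤ ⊤) f ^ k •
          (show Γ(Coh.structureModule X, T) from he.coord T h x l) := fun l => by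
    let φ : LocHom F (Coh.structureModule X) (X.basicOpen f) :=
      { app := fun T h =>
          { toFun := fun x => (he.coord T h x l : Γ(X, T))
            map_add' := fun a b => by rw [map_add]; rfl
            map_smul' := fun c a => by rw [map_smul]; rfl }
        nat := fun {T T'} h h' x => (congrFun (he.coord_mres h h' x) l).symm }
    obtain ⟨k, s, hs⟩ := exists_extend_hom hF f φ
    refine Filter.eventually_atTop.2 ⟨k, fun m hm => ⟨s ≫ scal _ (f ^ (m - k)), ?_⟩⟩
    intro T h x
    rw [Scheme.Modules.Hom.comp_app, ConcreteCategory.comp_apply, scal_app, hs T h x, map_pow,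
      smul_smul, ← pow_add, Nat.sub_add_cancel hm]
    rfl
  obtain ⟨L, hL⟩ := (Filter.eventually_all.2 hcoord).exists
  choose s hs using hL
  let t : Fin n → (Coh.structureModule X ⟶ F) := fun l => homOfSection F (τ l)
  have hsum : ∀ (s' : Fin n → (F ⟶ Coh.structureModule X)) (T : X.Opens) (x : Γ(F, T)),
      (∑ l, s' l ≫ t l).app T x = ∑ l, asFn ((s' l).app T x) • mres F (le_top : T ≤ ⊤) (τ l) :=
    fun s' T x => by
    let ev : (F ⟶ F) →+ Γ(F, T) := AddMonoidHom.mk' (fun g => g.app T x) fun a b => rfl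
    refine (map_sum ev _ _).trans (Finset.sum_congr rfl fun l _ => ?_)
    show (s' l ≫ t l).app T x = _
    rw [Scheme.Modules.Hom.comp_app, ConcreteCategory.comp_apply, app_eq_smul, sect_homOfSection]
  have hD : ∀ (T : X.Opens) (h : T ≤ X.basicOpen f) (x : Γ(F, T)),
      (∑ l, s l ≫ t l).app T x = ores (le_top : T ≤ ⊤) f ^ (L + K) • x := fun T h x => by
    rw [hsum]
    conv_rhs => rw [← he.comb_coord T h x]
    simp only [comb, Finset.smul_sum]
    refine Finset.sum_congr rfl fun l _ => ?_
    have h1 := congrArg (mres F h) (hτ l)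
    rw [mres_mres, mres_smul, map_pow, ores_ores] at h1
    rw [hs l T h x, h1]
    show (ores (le_top : T ≤ ⊤) f ^ L * he.coord T h x l : Γ(X, T)) • _ = _
    rw [smul_smul, smul_smul, pow_add]
    congr 1
    ring
  obtain ⟨ι, _, A, m, b, hA, hb, hcov⟩ := exists_affine_bases hF
  have hkill : ∀ z : Σ i, Fin (m i), ∀ᶠ M in Filter.atTop, ores (le_top : A z.1 ≤ ⊤) f ^ M •
      ((∑ l, s l ≫ t l).app (A z.1) (b z.1 z.2) -
        ores (le_top : A z.1 ≤ ⊤) f ^ (L + K) • b z.1 z.2) = 0 := fun z => by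
    obtain ⟨M, hM⟩ := exists_pow_smul_eq_zero F (hA z.1) (ores (le_top : A z.1 ≤ ⊤) f)
      (W := A z.1 ⊓ X.basicOpen f) (by rw [basicOpen_ores]) inf_le_left
      ((∑ l, s l ≫ t l).app (A z.1) (b z.1 z.2) -
        ores (le_top : A z.1 ≤ ⊤) f ^ (L + K) • b z.1 z.2) (by
        rw [map_sub, sub_eq_zero, app_mres, hD _ inf_le_right, mres_smul, map_pow, ores_ores])
    refine Filter.eventually_atTop.2 ⟨M, fun m' hm' => ?_⟩
    rw [← Nat.sub_add_cancel hm', pow_add, mul_smul, hM, smul_zero]
  obtain ⟨M, hM⟩ := (Filter.eventually_all.2 hkill).exists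
  let s' : Fin n → (F ⟶ Coh.structureModule X) := fun l => s l ≫ scal _ (f ^ M)
  refine ⟨M + (L + K), s', t, fun T x => ?_⟩
  have hs' : (∑ l, s' l ≫ t l).app T x = ores (le_top : T ≤ ⊤) f ^ M • (∑ l, s l ≫ t l).app T x := by
    rw [hsum, hsum, Finset.smul_sum]
    refine Finset.sum_congr rfl fun l _ => ?_
    show asFn ((s l ≫ scal _ (f ^ M)).app T x) • _ = _
    rw [Scheme.Modules.Hom.comp_app, ConcreteCategory.comp_apply, scal_app, map_pow]
    exact mul_smul (ores (le_top : T ≤ ⊤) f ^ M) (asFn ((s l).app T x)) _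
  rw [hs']
  refine eq_of_iSup_le F (fun i => T ⊓ A i) (fun i => inf_le_left) (fun z hz => ?_) _ _ fun i => ?_
  · obtain ⟨i, hi⟩ := Opens.mem_iSup.1 (hcov (Set.mem_univ z))
    exact Opens.mem_iSup.2 ⟨i, hz, hi⟩
  · let S := ∑ l, s l ≫ t l
    let α : LocHom F F (A i) :=
      { app := fun T' h' =>
          { toFun := fun x => ores (le_top : T' ≤ ⊤) f ^ M • S.app T' x
            map_add' := fun a b => by rw [map_add, smul_add]
            map_smul' := fun c a => by
              rw [Scheme.Modules.Hom.app_smul, RingHom.id_apply, smul_comm] }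
        nat := fun {T' T''} h' h'' x => by
          simp only [LinearMap.coe_mk, AddHom.coe_mk]
          rw [mres_smul, map_pow, ores_ores, app_mres] }
    let β : LocHom F F (A i) :=
      { app := fun T' h' =>
          { toFun := fun x => ores (le_top : T' ≤ ⊤) f ^ (M + (L + K)) • x
            map_add' := fun a b => smul_add _ _ _
            map_smul' := fun c a => smul_comm _ _ _ }
        nat := fun {T' T''} h' h'' x => by
          simp only [LinearMap.coe_mk, AddHom.coe_mk]
          rw [mres_smul, map_pow, ores_ores] }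
    have := LocHom.ext_basis (hb i) α β (fun l => by
      have := hM ⟨i, l⟩
      rw [smul_sub, sub_eq_zero, smul_smul, ← pow_add] at this
      exact this) (T ⊓ A i) inf_le_right (mres F inf_le_left x)
    rw [mres_smul, mres_smul, map_pow, map_pow, ores_ores, app_mres]
    exact this

end Groth.Agent.FrameHom
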