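import Groth.Agent.FrameHom.Basic

/-!
# Annihilators of the cohomology of finite locally free modules from those of the structure sheaf
-/

set_option autoImplicit false
set_option backward.isDefEq.respectTransparency false
set_option backward.isDefEq.respectTransparency.types false

noncomputable section

universe u

open CategoryTheory Limits AlgebraicGeometry Opposite TopologicalSpace
open Groth.Agent.QCohBase Groth.Agent.CohFinite

namespace Groth.Agent.FrameHom

variable {A : Type u} [CommRing A] {X : Scheme.{u}} [X.Over (Spec (CommRingCat.of A))]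
  [CompactSpace X] [QuasiSeparatedSpace X]

/-- If `F` has a basis on the basic open of `a`, then `a^N` times an annihilator of `H^p(O)`
annihilates `H^p(F)`. -/
theorem exists_pow_mul_annihilates {F : X.Modules} (hF : FlatMod.IsFinLocFree F) (a : A) {n : ℕ}
    {e : Fin n → Γ(F, X.basicOpen (Coh.toGlobal (X ↘ Spec (CommRingCat.of A)) a : Γ(X, ⊤)))}
    (he : IsBasisOn F e) (p : ℕ) :
    ∃ N : ℕ, ∀ b : A, (∀ x : Coh.HH X (Coh.structureModule X) p, b • x = 0) →
      ∀ y : Coh.HH X F p, (a ^ N * b) • y = 0 := by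
  obtain ⟨N, s, t, hst⟩ := exists_pow_factor hF _ he
  refine ⟨N, fun b hb y => ?_⟩
  have key : Coh.smulAb F (Coh.toGlobal (X ↘ Spec (CommRingCat.of A)) (a ^ N)) =
      ∑ l, (modAb X).map (s l) ≫ (modAb X).map (t l) := by
    simp only [← Functor.map_comp, ← Functor.map_sum]
    ext U m
    refine Eq.trans ?_ (hst U.unop m).symm
    rw [Coh.smulAb_app]
    show (ores (le_top : U.unop ≤ ⊤) (Coh.toGlobal (X ↘ Spec (CommRingCat.of A)) (a ^ N)) :
      Γ(X, U.unop)) • (show Γ(F, U.unop) from m) = _
    rw [map_pow, map_pow]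
  have h1 : (a ^ N) • (b • y) = ∑ l, hhMap A (t l) p (hhMap A (s l) p (b • y)) := by
    show Sheaf.H.map (Coh.smulAb F (Coh.toGlobal (X ↘ Spec (CommRingCat.of A)) (a ^ N))) p (b • y) = _
    rw [key]
    let ev : (Coh.toAb F ⟶ Coh.toAb F) →+ Coh.HH X F p :=
      AddMonoidHom.mk' (fun g => Sheaf.H.map g p (b • y)) fun g g' => Sheaf.H.map_add_apply _ _ _
    refine (map_sum ev _ _).trans (Finset.sum_congr rfl fun l _ => ?_)
    exact Sheaf.H.map_comp_apply _ _ _
  rw [mul_smul, h1]
  refine Finset.sum_eq_zero fun l _ => ?_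
  rw [map_smul (hhMap A (s l) p), hb, map_zero]

end Groth.Agent.FrameHom
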